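import Mathlib
import Groth.Prelude.Def_Red
import Groth.Agent.MTBridge.Charts
import Groth.Agent.MTBridge.CentralFibres

/-!
# A torus over an infinite field which is killed by a positive integer is trivial
-/

set_option autoImplicit false
set_option linter.style.haveILetI false
set_option backward.isDefEq.respectTransparency false
set_option maxHeartbeats 1000000
set_option synthInstance.maxHeartbeats 400000
universe u

open CategoryTheory Limits MonoidalCategory CartesianMonoidalCategory AlgebraicGeometry MonObj WithConv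
open scoped CategoryTheory.Obj

noncomputable section

namespace Groth.Agent.TorusKilled

theorem conv_apply {L B : Type u} [CommRing L] [CommRing B] [HopfAlgebra L B] (g : B) (hg : Coalgebra.comul (R := L) g = g ⊗ₜ[L] g)
    (φ ψ : WithConv (B →ₐ[L] L)) : (φ * ψ).ofConv g = φ.ofConv g * ψ.ofConv g := by
  simp [AlgHom.convMul_apply, hg]

/-- The split case: the rank vanishes. -/
theorem rank_eq_zero {L : Type u} [Field L] [Infinite L] {r : ℕ} (T : Over (Spec (CommRingCat.of L))) [GrpObj T]
    (hT : Red.IsSplitTorusWith (Fin r → ℤ) T) {N : ℕ} (hN : 0 < N)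
    (h : ∀ x : (Spec (CommRingCat.of L)).asOver (Spec (CommRingCat.of L)) ⟶ T, x ^ N = 1) : r = 0 := by
  classical
  by_contra hr
  obtain ⟨c, hc0, hc⟩ : ∃ c : L, c ≠ 0 ∧ c ^ N ≠ 1 := by
    obtain ⟨c, hc⟩ := Set.Infinite.nonempty ((Polynomial.finite_setOf_isRoot
      (p := (Polynomial.X * (Polynomial.X ^ N - 1) : Polynomial L))
      (mul_ne_zero Polynomial.X_ne_zero (by simpa using Polynomial.X_pow_sub_C_ne_zero hN (1 : L)))).infinite_compl)
    simp only [Set.mem_compl_iff, Set.mem_setOf_eq, Polynomial.IsRoot.def, Polynomial.eval_mul, Polynomial.eval_X,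
      Polynomial.eval_sub, Polynomial.eval_pow, Polynomial.eval_one, mul_eq_zero, not_or, sub_eq_zero] at hc
    exact ⟨c, hc.1, hc.2⟩
  let B := MonoidAlgebra L (Multiplicative (Fin r → ℤ))
  obtain ⟨e₀⟩ := MTBridge.nonempty_DS_iso L (Fin r → ℤ)
  let e := Classical.choice hT ≪≫ e₀
  let χ : Multiplicative (Fin r → ℤ) →* L :=
    (Units.coeHom L).comp ((zpowersHom Lˣ (Units.mk0 c hc0)).comp
      (Pi.evalAddMonoidHom (fun _ : Fin r => ℤ) ⟨0, Nat.pos_of_ne_zero hr⟩).toMultiplicative)
  let φ : WithConv (B →ₐ[L] L) := toConv (MonoidAlgebra.lift L L (Multiplicative (Fin r → ℤ)) χ)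
  let x := (Spec.mapMulEquiv (R := CommRingCat.of L) (S := CommRingCat.of B) (T := CommRingCat.of L)) φ
  have hx : x ^ N = 1 := by
    have h1 := h (x ≫ e.inv.hom.hom)
    rw [← MonObj.pow_comp] at h1
    have h2 := congrArg (· ≫ e.hom.hom.hom) h1
    simp only [MonObj.one_comp, Category.assoc] at h2
    rw [show e.inv.hom.hom ≫ e.hom.hom.hom = 𝟙 _ from congrArg (fun m => m.hom.hom) e.inv_hom_id, Category.comp_id] at h2
    exact h2
  rw [← map_pow, map_eq_one_iff _ (MulEquiv.injective _)] at hx
  let m : Multiplicative (Fin r → ℤ) := Multiplicative.ofAdd (Pi.single ⟨0, Nat.pos_of_ne_zero hr⟩ (1 : ℤ))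
  have hcu : Coalgebra.counit (R := L) (MonoidAlgebra.single m (1 : L) : B) = 1 :=
    (MonoidAlgebra.counit_single m (1 : L)).trans (CommSemiring.counit_apply L 1)
  have hgl : Coalgebra.comul (R := L) (MonoidAlgebra.single m (1 : L) : B) = MonoidAlgebra.single m 1 ⊗ₜ[L] MonoidAlgebra.single m 1 :=
    (MonoidAlgebra.comul_single m (1 : L)).trans (by simp [CommSemiring.comul_apply])
  have hφm : φ.ofConv (MonoidAlgebra.single m 1) = c := by
    refine (MonoidAlgebra.lift_single χ m 1).trans ?_
    simp [χ, m, zpowersHom_apply]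
  have hpow : ∀ n : ℕ, (φ ^ n).ofConv (MonoidAlgebra.single m 1) = c ^ n := by
    intro n
    induction n with
    | zero =>
      simp [AlgHom.convOne_apply]
      exact hcu
    | succ n ih =>
      rw [pow_succ, conv_apply _ hgl, ih, hφm, pow_succ]
  have := hpow N
  rw [hx] at this
  simp [AlgHom.convOne_apply] at this
  exact hc (this.symm.trans hcu)

/-- A torus over an infinite field killed by a positive integer is trivial. -/
theorem isTrivial {K : Type u} [Field K] [Infinite K] (T : Over (Spec (CommRingCat.of K))) [GrpObj T]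
    (hT : Red.IsTorus T) {N : ℕ} (hN : 0 < N) (h : (𝟙 T : T ⟶ T) ^ N = 1) : IsIso T.hom := by
  obtain ⟨S', f, -, hfs, -, hloc⟩ := hT
  obtain ⟨s', -⟩ := hfs.surj (default : PrimeSpectrum K)
  obtain ⟨U, hs', r, hr⟩ := hloc s'
  let L := (U : Scheme.{u}).residueField ⟨s', hs'⟩
  let g : Spec L ⟶ (U : Scheme.{u}) := (U : Scheme.{u}).fromSpecResidueField ⟨s', hs'⟩
  let w : Spec L ⟶ Spec (CommRingCat.of K) := g ≫ U.ι ≫ f
  have hsplit : Red.IsSplitTorusWith (Fin r → ℤ) (Red.bc w T) := MTBridge.nonempty_bc_split hr g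
  haveI : Infinite L := Infinite.of_injective (Spec.preimage w).hom (Spec.preimage w).hom.injective
  have hpts : ∀ (X : Over (Spec L)) (x : X ⟶ Red.bc w T), x ^ N = 1 := by
    intro X x
    obtain ⟨a, rfl⟩ : ∃ a, MTBridge.toBC w a = x :=
      ⟨((Over.mapPullbackAdj w).homEquiv X T).symm x, ((Over.mapPullbackAdj w).homEquiv X T).apply_symm_apply x⟩
    let θ : ((Over.map w).obj X ⟶ T) →* (X ⟶ Red.bc w T) := MonoidHom.mk' (MTBridge.toBC w) (MTBridge.toBC_mul w)
    show θ a ^ N = 1
    rw [← map_pow, show a ^ N = 1 by rw [← Category.comp_id a, ← MonObj.comp_pow, h, MonObj.comp_one], map_one]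
  have hr0 := rank_eq_zero (L := L) (Red.bc w T) hsplit hN fun x => hpts _ x
  subst hr0
  obtain ⟨e₀⟩ := MTBridge.nonempty_DS_iso L (Fin 0 → ℤ)
  let e := Classical.choice hsplit ≪≫ e₀
  haveI : IsIso e.hom.hom.hom.left :=
    inferInstanceAs (IsIso ((Over.forget _).map ((Grp.forget _).map e.hom)))
  haveI : IsIso (Red.bc w T).hom := by
    rw [← Over.w e.hom.hom.hom]
    haveI : IsIso (CommRingCat.ofHom (algebraMap L (MonoidAlgebra L (Multiplicative (Fin 0 → ℤ))))) := by
      haveI : Subsingleton (Multiplicative (Fin 0 → ℤ)) := inferInstanceAs (Subsingleton (Fin 0 → ℤ))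
      refine (ConcreteCategory.isIso_iff_bijective _).2 ⟨RingHom.injective _, fun z => ?_⟩
      refine ⟨z.coeff 1, ?_⟩
      induction z using MonoidAlgebra.induction_linear with
      | zero => simp
      | add a b ha hb => simp only [MonoidAlgebra.coeff_add, Finsupp.add_apply, map_add, ha, hb]
      | single m c =>
        obtain rfl : m = 1 := Subsingleton.elim _ _
        simp
    haveI : IsIso ((Spec (CommRingCat.of (MonoidAlgebra L (Multiplicative (Fin 0 → ℤ))))).asOver (Spec L)).hom :=
      inferInstanceAs (IsIso (Spec.map (CommRingCat.ofHom (algebraMap L (MonoidAlgebra L (Multiplicative (Fin 0 → ℤ)))))))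
    infer_instance
  haveI : Surjective w := ⟨fun y => ⟨default, Subsingleton.elim _ _⟩⟩
  haveI : Flat w := by
    rw [← Spec.map_preimage w, Flat.SpecMap_iff]
    letI := (Spec.preimage w).hom.toAlgebra
    exact RingHom.flat_algebraMap_iff.2 (inferInstanceAs (Module.Flat K L))
  exact (MorphismProperty.isomorphisms.iff _).1 (MorphismProperty.of_pullback_snd_of_descendsAlong
    (P := MorphismProperty.isomorphisms Scheme.{u}) (Q := @Surjective ⊓ @Flat ⊓ @QuasiCompact) (f := T.hom) (g := w)
    ⟨⟨inferInstance, inferInstance⟩, inferInstance⟩ ((MorphismProperty.isomorphisms.iff _).2 (inferInstanceAs (IsIso (Red.bc w T).hom))))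

end Groth.Agent.TorusKilled
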